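import Groth.Prelude.Def_KDet
import Groth.Agent.S0927
import Groth.Agent.S15827
import Groth.Agent.Krr.H482.PullLambda
import Groth.Agent.Krr.H446.ProjFormula
import Groth.Agent.Krr.H495.ExtExist
import Groth.Agent.Krr.H495.Rank
import Groth.Agent.Grpsch.PicGrp
import Groth.Agent.Ega2.TensMon
import Groth.Agent.Ega2.QCohLocal

/-!
# The projection formula for the twisted push-forward, and the determinant of a line twist

* `push_mul_pull`: `π_*^F (x · π^* y) = π_*^F (x) · y`, when the classes of `F`-acyclic bundles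
  generate `K^•(X)`.
* `det_mul_line`: `det (z · [L]) = det z + ε(z) [L]`.
* `det_mul_one_sub`: `det (z (1 - [M'])) = ε(z) [M]` for `M'` inverse to `M`.
-/

set_option autoImplicit false
universe u
open CategoryTheory CategoryTheory.Limits AlgebraicGeometry

namespace K937.ProjDet

section Push

variable {X Y : Scheme.{u}} (π : X ⟶ Y) [HasInjectiveResolutions X.Modules] (F : X.Modules)

/-- `F`-acyclic bundles. -/
structure Good (E : X.Modules) : Prop where
  flf : FlatMod.IsFinLocFree E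
  zero : ∀ p : ℕ, 0 < p → IsZero ((Coh.Rpush π p).obj (((DCoh.tensorBi (X := X)).obj F).obj E))
  push : FlatMod.IsFinLocFree ((Coh.push π).obj (((DCoh.tensorBi (X := X)).obj F).obj E))

variable {π F}

theorem projIso (G : X.Modules) {V : Y.Modules} (hV : FlatMod.IsFinLocFree V) (q : ℕ) :
    Nonempty (CohB1.tensorMod ((Coh.Rpush π q).obj (CohB1.tensorMod F G)) V ≅
      (Coh.Rpush π q).obj (CohB1.tensorMod F (CohB1.tensorMod G ((Scheme.Modules.pullback π).obj V)))) := by
  obtain ⟨e⟩ := Groth.Agent.S0927.result π (CohB1.tensorMod F G) V hV q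
  let c1 := Groth.Agent.Sga67.TensorOps.tensorComm ((Coh.Rpush π q).obj (CohB1.tensorMod F G)) V
  let c2 := Groth.Agent.Sga67.TensorOps.tensorComm ((Scheme.Modules.pullback π).obj V)
    (CohB1.tensorMod F G)
  let c3 := Groth.Agent.Ega2.Tens.assoc F G ((Scheme.Modules.pullback π).obj V)
  exact ⟨c1 ≪≫ e ≪≫ (Coh.Rpush π q).mapIso (c2 ≪≫ c3)⟩

theorem Good.tensor {E : X.Modules} (hE : Good π F E) {V : Y.Modules}
    (hV : FlatMod.IsFinLocFree V) :
    Good π F (CohB1.tensorMod E ((Scheme.Modules.pullback π).obj V)) ∧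
      Nonempty (CohB1.tensorMod ((Coh.push π).obj (CohB1.tensorMod F E)) V ≅
        (Coh.push π).obj (CohB1.tensorMod F
          (CohB1.tensorMod E ((Scheme.Modules.pullback π).obj V)))) := by
  have hpV := Groth.Agent.PerfB.FlatPull.isFinLocFree_pullback π hV
  have e0 : Nonempty (CohB1.tensorMod ((Coh.push π).obj (CohB1.tensorMod F E)) V ≅
        (Coh.push π).obj (CohB1.tensorMod F
          (CohB1.tensorMod E ((Scheme.Modules.pullback π).obj V)))) := by
    obtain ⟨e⟩ := projIso (π := π) (F := F) E hV 0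
    refine ⟨PicGrp.tensorModIso ((Coh.push π).rightDerivedZeroIsoSelf.app _).symm (Iso.refl V) ≪≫
      e ≪≫ (Coh.push π).rightDerivedZeroIsoSelf.app _⟩
  refine ⟨⟨Groth.Agent.Sga67.LocBasis.isFinLocFree_tensorMod hE.flf hpV, fun p hp => ?_, ?_⟩, e0⟩
  · obtain ⟨e⟩ := projIso (π := π) (F := F) E hV p
    refine IsZero.of_iso ?_ e.symm
    let t := (DCoh.tensorBi (X := Y)).flip.obj V
    have h0 := hE.zero p hp
    have : IsZero (t.obj ((Coh.Rpush π p).obj (((DCoh.tensorBi (X := X)).obj F).obj E))) := by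
      have hadd : t.Additive := inferInstance
      exact t.map_isZero h0
    exact this
  · obtain ⟨e⟩ := e0
    exact Groth.Agent.Dcoh.FinLocFree.isFinLocFree_of_iso e
      (Groth.Agent.Sga67.LocBasis.isFinLocFree_tensorMod hE.push hV)

variable {KX : Type u} [CommRing KX] [LambdaRing.LambdaOps KX] {PX : LambdaRing.PosStructure KX}
  {φX : SGA6.Kvb X →+ KX} (hKX : KRR.IsModel X KX PX φX)
  {KY : Type u} [CommRing KY] [LambdaRing.LambdaOps KY] {PY : LambdaRing.PosStructure KY}
  {φY : SGA6.Kvb Y →+ KY} (hKY : KRR.IsModel Y KY PY φY)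

include hKX hKY

theorem push_mul_pull {g : KX →+ KY} (hg : KDet.IsPushF π F φX φY g)
    {pX : KY →+ KX} (hpX : KRR.IsPull π φY φX pX)
    (hgen : ∀ x : KX, x ∈ AddSubgroup.closure {x | ∃ E, Good π F E ∧ x = φX (KRR.cl X E)})
    (x : KX) (y : KY) : g (x * pX y) = g x * y := by
  have hx := hgen x
  induction hx using AddSubgroup.closure_induction with
  | mem x hx =>
    obtain ⟨E, hE, rfl⟩ := hx
    refine Groth.Agent.Krr.H446.ProjFormula.model_induction hKY
      (C := fun y => g (φX (KRR.cl X E) * pX y) = g (φX (KRR.cl X E)) * y) (by simp) ?_ ?_ ?_ y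
    · intro V hV
      obtain ⟨hEV, ⟨e⟩⟩ := hE.tensor hV
      have hpV := Groth.Agent.PerfB.FlatPull.isFinLocFree_pullback π hV
      have h1 : φX (KRR.cl X E) * pX (φY (KRR.cl Y V)) =
          φX (KRR.cl X (CohB1.tensorMod E ((Scheme.Modules.pullback π).obj V))) := by
        rw [hpX V hV, hKX.map_mul E _ hE.flf hpV]
        rfl
      rw [h1, hg _ hEV.flf hEV.zero hEV.push, hg E hE.flf hE.zero hE.push,
        hKY.map_mul _ V hE.push hV]
      congr 1
      exact (Groth.Agent.Krr.H446.ProjFormula.cl_iso e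
        (Groth.Agent.Sga67.LocBasis.isFinLocFree_tensorMod hE.push hV)).symm
    · intro y hy
      simp only [map_neg, mul_neg, hy]
    · intro y y' hy hy'
      simp only [map_add, mul_add, hy, hy']
  | zero => simp
  | add x x' _ _ hx hx' => simp only [add_mul, map_add, hx, hx']
  | neg x _ hx => simp only [neg_mul, map_neg, hx]

end Push

section Det

variable {Y : Scheme.{u}} {KY : Type u} [CommRing KY] [LambdaRing.LambdaOps KY]
  {PY : LambdaRing.PosStructure KY} {φY : SGA6.Kvb Y →+ KY} (hKY : KRR.IsModel Y KY PY φY)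
  [PicGrp.Law Y] {dt : KY →+ Additive (PicLoc.PicSet Y)} (hdt : KDet.IsDet φY dt)

include hKY hdt

theorem det_mul_line {L : Y.Modules} (hL : PicF.IsInvertible L) (z : KY) :
    dt (z * φY (KRR.cl Y L)) = dt z + PY.aug z • Additive.ofMul (PicGrp.cls L hL) := by
  have hL1 : FlatMod.IsFinLocFreeOfRank 1 L :=
    Groth.Agent.Ega2.QCohLocal.isFinLocFreeOfRank_one_iff.2 hL
  have hLf : FlatMod.IsFinLocFree L := Groth.Agent.Krr.H495.Rank.isFinLocFree_of_rank hL1
  refine Groth.Agent.Krr.H482.PullLambda.model_induction hKY (C := fun z =>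
    dt (z * φY (KRR.cl Y L)) = dt z + PY.aug z • Additive.ofMul (PicGrp.cls L hL)) ?_ ?_ z
  · intro n E hn hE
    have hEf : FlatMod.IsFinLocFree E := Groth.Agent.Krr.H495.Rank.isFinLocFree_of_rank hE
    obtain ⟨D, hDf, hD⟩ := Groth.Agent.Krr.H495.ExtExist.exists_isExtPow n E hEf
    have hD1 : PicF.IsInvertible D := by
      have := Groth.Agent.Krr.H495.Rank.rank_extPow hE hD
      rw [Nat.choose_self] at this
      exact Groth.Agent.Ega2.QCohLocal.isFinLocFreeOfRank_one_iff.1 this
    have hEL : FlatMod.IsFinLocFreeOfRank n (CohB1.tensorMod E L) := by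
      have := Groth.Agent.Krr.H495.Rank.rank_tensor hE hL1
      rwa [mul_one] at this
    obtain ⟨D', hDf', hD'⟩ := Groth.Agent.Krr.H495.ExtExist.exists_isExtPow n
      (CohB1.tensorMod E L) (Groth.Agent.Krr.H495.Rank.isFinLocFree_of_rank hEL)
    have hD1' : PicF.IsInvertible D' := by
      have := Groth.Agent.Krr.H495.Rank.rank_extPow hEL hD'
      rw [Nat.choose_self] at this
      exact Groth.Agent.Ega2.QCohLocal.isFinLocFreeOfRank_one_iff.1 this
    obtain ⟨e⟩ := Groth.Agent.S15827.result E L hEf hL1 n D' D hD' hD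
    have h1 : dt (φY (KRR.cl Y E) * φY (KRR.cl Y L)) = Additive.ofMul (PicGrp.cls D' hD1') := by
      rw [hKY.map_mul E L hEf hLf]
      exact hdt n (CohB1.tensorMod E L) D' hD1' hEL hD'
    rw [h1, hdt n E D hD1 hE hD, hKY.aug_cl n E hE]
    rw [natCast_zsmul, ← ofMul_pow, ← ofMul_mul]
    congr 1
    apply Subtype.ext
    rw [PicGrp.mul_val, PicGrp.cls_pow_val, PicGrp.cls_val, PicGrp.cls_val, PicGrp.mulCl_cl]
    exact (PicGrp.cl_eq_cl_iff _ _).2 ⟨e⟩
  · intro z z' hz hz'
    rw [sub_mul, map_sub, hz, hz', map_sub, map_sub, sub_smul]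
    abel

theorem det_mul_one_sub {M M' : Y.Modules} (hM : PicF.IsInvertible M) (hM' : PicF.IsInvertible M')
    (hMM' : ClSub.IsInverseOf M M') (z : KY) :
    dt (z * (1 - φY (KRR.cl Y M'))) = PY.aug z • Additive.ofMul (PicGrp.cls M hM) := by
  rw [mul_sub, mul_one, map_sub, det_mul_line hKY hdt hM' z]
  have : PicGrp.cls M' hM' = (PicGrp.cls M hM)⁻¹ := (PicGrp.cls_inv_eq_cls hM hM' hMM').symm
  rw [this, ofMul_inv, smul_neg]
  abel

end Det

end K937.ProjDet
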